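import Mathlib
import Cfsg.Agent.TcChain36.LM22.A6.Tab

set_option autoImplicit false
set_option maxRecDepth 100000
set_option linter.all false

namespace Cfsg.Agent.TcChain36.LM22.A6

open Cfsg.Spor Cfsg.Agent.Lib.TcFacts Cfsg.Agent.Lib.TcBits Cfsg.Agent.Lib.TcPres

theorem b0 : Block F al 0 256 255 :=
  block_of_check (k := 8) rfl (by decide +kernel)

theorem b1 : Block F al 256 512 256 :=
  block_of_check (k := 8) rfl (by decide +kernel)

theorem b2 : Block F al 512 768 256 :=
  block_of_check (k := 8) rfl (by decide +kernel)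

theorem b3 : Block F al 768 1024 256 :=
  block_of_check (k := 8) rfl (by decide +kernel)

theorem b4 : Block F al 1024 1280 256 :=
  block_of_check (k := 8) rfl (by decide +kernel)

theorem b5 : Block F al 1280 1536 256 :=
  block_of_check (k := 8) rfl (by decide +kernel)

theorem b6 : Block F al 1536 1792 256 :=
  block_of_check (k := 8) rfl (by decide +kernel)

theorem b7 : Block F al 1792 2048 256 :=
  block_of_check (k := 8) rfl (by decide +kernel)

theorem b8 : Block F al 2048 2304 256 :=
  block_of_check (k := 8) rfl (by decide +kernel)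

theorem b9 : Block F al 2304 2560 256 :=
  block_of_check (k := 8) rfl (by decide +kernel)

theorem b10 : Block F al 2560 2816 256 :=
  block_of_check (k := 8) rfl (by decide +kernel)

theorem b11 : Block F al 2816 3072 256 :=
  block_of_check (k := 8) rfl (by decide +kernel)

theorem b12 : Block F al 3072 3328 256 :=
  block_of_check (k := 8) rfl (by decide +kernel)

theorem b13 : Block F al 3328 3584 256 :=
  block_of_check (k := 8) rfl (by decide +kernel)

theorem b14 : Block F al 3584 3840 256 :=
  block_of_check (k := 8) rfl (by decide +kernel)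

theorem b15 : Block F al 3840 4096 256 :=
  block_of_check (k := 8) rfl (by decide +kernel)

theorem b16 : Block F al 4096 4352 256 :=
  block_of_check (k := 8) rfl (by decide +kernel)

theorem b17 : Block F al 4352 4608 256 :=
  block_of_check (k := 8) rfl (by decide +kernel)

theorem b18 : Block F al 4608 4864 256 :=
  block_of_check (k := 8) rfl (by decide +kernel)

theorem b19 : Block F al 4864 5120 177 :=
  block_of_check (k := 8) rfl (by decide +kernel)

theorem c0 : Block F al 0 256 255 := b0

theorem c1 : Block F al 0 512 511 :=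
  block_comb c0 b1 (Nat.zero_le _) (Nat.le_of_ble_eq_true rfl) rfl

theorem c2 : Block F al 0 768 767 :=
  block_comb c1 b2 (Nat.zero_le _) (Nat.le_of_ble_eq_true rfl) rfl

theorem c3 : Block F al 0 1024 1023 :=
  block_comb c2 b3 (Nat.zero_le _) (Nat.le_of_ble_eq_true rfl) rfl

theorem c4 : Block F al 0 1280 1279 :=
  block_comb c3 b4 (Nat.zero_le _) (Nat.le_of_ble_eq_true rfl) rfl

theorem c5 : Block F al 0 1536 1535 :=
  block_comb c4 b5 (Nat.zero_le _) (Nat.le_of_ble_eq_true rfl) rfl

theorem c6 : Block F al 0 1792 1791 :=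
  block_comb c5 b6 (Nat.zero_le _) (Nat.le_of_ble_eq_true rfl) rfl

theorem c7 : Block F al 0 2048 2047 :=
  block_comb c6 b7 (Nat.zero_le _) (Nat.le_of_ble_eq_true rfl) rfl

theorem c8 : Block F al 0 2304 2303 :=
  block_comb c7 b8 (Nat.zero_le _) (Nat.le_of_ble_eq_true rfl) rfl

theorem c9 : Block F al 0 2560 2559 :=
  block_comb c8 b9 (Nat.zero_le _) (Nat.le_of_ble_eq_true rfl) rfl

theorem c10 : Block F al 0 2816 2815 :=
  block_comb c9 b10 (Nat.zero_le _) (Nat.le_of_ble_eq_true rfl) rfl

theorem c11 : Block F al 0 3072 3071 :=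
  block_comb c10 b11 (Nat.zero_le _) (Nat.le_of_ble_eq_true rfl) rfl

theorem c12 : Block F al 0 3328 3327 :=
  block_comb c11 b12 (Nat.zero_le _) (Nat.le_of_ble_eq_true rfl) rfl

theorem c13 : Block F al 0 3584 3583 :=
  block_comb c12 b13 (Nat.zero_le _) (Nat.le_of_ble_eq_true rfl) rfl

theorem c14 : Block F al 0 3840 3839 :=
  block_comb c13 b14 (Nat.zero_le _) (Nat.le_of_ble_eq_true rfl) rfl

theorem c15 : Block F al 0 4096 4095 :=
  block_comb c14 b15 (Nat.zero_le _) (Nat.le_of_ble_eq_true rfl) rfl

theorem c16 : Block F al 0 4352 4351 :=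
  block_comb c15 b16 (Nat.zero_le _) (Nat.le_of_ble_eq_true rfl) rfl

theorem c17 : Block F al 0 4608 4607 :=
  block_comb c16 b17 (Nat.zero_le _) (Nat.le_of_ble_eq_true rfl) rfl

theorem c18 : Block F al 0 4864 4863 :=
  block_comb c17 b18 (Nat.zero_le _) (Nat.le_of_ble_eq_true rfl) rfl

theorem c19 : Block F al 0 5120 5040 :=
  block_comb c18 b19 (Nat.zero_le _) (Nat.le_of_ble_eq_true rfl) rfl

end Cfsg.Agent.TcChain36.LM22.A6
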